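import Mathlib.LinearAlgebra.Dimension.Constructions
import Mathlib.LinearAlgebra.TensorProduct.Tower
import Mathlib.RingTheory.Nakayama
import Mathlib.RingTheory.LocalRing.Module
import Mathlib.RingTheory.Noetherian.Basic
import Mathlib.RingTheory.Jacobson.Ideal
import Mathlib.Algebra.GroupWithZero.Action.Defs
import Mathlib.GroupTheory.OrderOfElement

/-!
# Invariants of a local domain under a group generated by pseudo-reflections

Serre's argument: the first Tor of the ring of invariants vanishes by Nakayama.
-/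

open TensorProduct
universe u

namespace Groth.Agent.PsReflPS23

variable {A : Type u} [CommRing A] [IsLocalRing A] {G : Type u} [Group G] [MulSemiringAction G A]

local notation "𝔐" => IsLocalRing.maximalIdeal A

lemma smul_mem_maximalIdeal (g : G) {x : A} (hx : x ∈ 𝔐) : g • x ∈ 𝔐 := by
  rw [IsLocalRing.mem_maximalIdeal, mem_nonunits_iff] at hx ⊢
  intro h
  have := h.map (MulSemiringAction.toRingHom G A g⁻¹)
  exact hx (by simpa using this)

lemma smul_mem_sq (g : G) {x : A} (hx : x ∈ 𝔐 ^ 2) : g • x ∈ 𝔐 ^ 2 := by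
  rw [pow_two] at hx ⊢
  induction hx using Submodule.mul_induction_on' with
  | mem_mul_mem a ha b hb =>
    rw [smul_mul']
    exact Ideal.mul_mem_mul (smul_mem_maximalIdeal g ha) (smul_mem_maximalIdeal g hb)
  | add a _ b _ ha hb => rw [smul_add]; exact add_mem ha hb

/-- The ideal of displacements. -/
def J (g : G) : Ideal A := Ideal.span {x : A | ∃ a, x = g • a - a}

lemma sub_mem_J (g : G) (a : A) : g • a - a ∈ J g := Ideal.subset_span ⟨a, rfl⟩

variable (k : Type u) [Field k] [Algebra k A] [SMulCommClass G k A]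

lemma J_eq_span_singleton [IsNoetherianRing A] [Finite G] (hG : (Nat.card G : k) ≠ 0)
    (hres : ∀ a : A, ∃ c : k, a - algebraMap k A c ∈ 𝔐) (g : G)
    (hg : ∃ l ∈ J g, ∀ j ∈ J g, ∃ c : k, j - c • l ∈ 𝔐 ^ 2) :
    ∃ l ∈ 𝔐, J g = Ideal.span {l} := by
  obtain ⟨l, hl, hlg⟩ := hg
  have hfix : ∀ (h : G) (c : k), h • algebraMap k A c = algebraMap k A c := fun h c => smul_algebraMap h c
  have hJM : J g ≤ 𝔐 := Ideal.span_le.2 fun x ⟨a, ha⟩ => by
    obtain ⟨c, hc⟩ := hres a
    have : x = g • (a - algebraMap k A c) - (a - algebraMap k A c) := by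
      rw [ha, smul_sub, hfix]; ring
    rw [this]
    exact sub_mem (smul_mem_maximalIdeal g hc) hc
  have hsq : ∀ a ∈ 𝔐 ^ 2, g • a - a ∈ 𝔐 • J g := by
    intro a ha
    rw [pow_two] at ha
    induction ha using Submodule.mul_induction_on' with
    | mem_mul_mem x hx y hy =>
      rw [smul_mul', show g • x * g • y - x * y = (g • y) * (g • x - x) + x * (g • y - y) by ring]
      exact add_mem (Submodule.smul_mem_smul (smul_mem_maximalIdeal g hy) (sub_mem_J g x))
        (Submodule.smul_mem_smul hx (sub_mem_J g y))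
    | add x _ y _ hx hy =>
      rw [smul_add, show g • x + g • y - (x + y) = (g • x - x) + (g • y - y) by ring]
      exact add_mem hx hy
  have hrep : ∀ j ∈ J g, ∃ b ∈ 𝔐, j - (g • b - b) ∈ 𝔐 • J g := by
    intro j hj
    induction hj using Submodule.span_induction with
    | mem x hx =>
      obtain ⟨a, rfl⟩ := hx
      obtain ⟨c, hc⟩ := hres a
      refine ⟨_, hc, ?_⟩
      rw [smul_sub, hfix, show g • a - a - (g • a - algebraMap k A c - (a - algebraMap k A c)) = 0 by ring]
      exact zero_mem _
    | zero => exact ⟨0, zero_mem _, by simp⟩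
    | add x y _ _ hx hy =>
      obtain ⟨b, hb, hb'⟩ := hx
      obtain ⟨b', hc, hc'⟩ := hy
      refine ⟨b + b', add_mem hb hc, ?_⟩
      convert add_mem hb' hc' using 1
      rw [smul_add]; ring
    | smul r x hx ih =>
      obtain ⟨b, hb, hb'⟩ := ih
      obtain ⟨c, hc⟩ := hres r
      refine ⟨algebraMap k A c * b, Ideal.mul_mem_left _ _ hb, ?_⟩
      have : r • x - (g • (algebraMap k A c * b) - algebraMap k A c * b) =
          (r - algebraMap k A c) * x + algebraMap k A c * (x - (g • b - b)) := by
        rw [smul_mul', hfix, smul_eq_mul]; ring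
      rw [this]
      exact add_mem (Submodule.smul_mem_smul hc hx) (Submodule.smul_mem _ _ hb')
  have hMJ : 𝔐 • J g ≤ 𝔐 ^ 2 := by
    rw [pow_two]; exact Ideal.mul_mono_right hJM
  have key : ∀ a ∈ 𝔐, g • a - a ∈ 𝔐 ^ 2 → g • a - a ∈ 𝔐 • J g := by
    intro a _ h
    let H : Subgroup G :=
      { carrier := {x | x • a - a ∈ 𝔐 ^ 2}
        mul_mem' := fun {x y} hx hy => by
          show (x * y) • a - a ∈ 𝔐 ^ 2
          rw [mul_smul, show x • y • a - a = x • (y • a - a) + (x • a - a) by rw [smul_sub]; ring]
          exact add_mem (smul_mem_sq x hy) hx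
        one_mem' := by simp
        inv_mem' := fun {x} hx => by
          show x⁻¹ • a - a ∈ 𝔐 ^ 2
          rw [show x⁻¹ • a - a = -(x⁻¹ • (x • a - a)) by rw [smul_sub, inv_smul_smul]; ring]
          exact neg_mem (smul_mem_sq _ hx) }
    have hle : Subgroup.zpowers g ≤ H := Subgroup.zpowers_le.2 h
    have hN : (Nat.card (Subgroup.zpowers g) : k) ≠ 0 := fun h0 => hG (by
      obtain ⟨m, hm⟩ := Subgroup.card_subgroup_dvd_card (Subgroup.zpowers g)
      rw [hm, Nat.cast_mul, h0, zero_mul])
    have := Fintype.ofFinite (Subgroup.zpowers g)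
    let T := ∑ x : Subgroup.zpowers g, (x : G) • a
    have hT : g • T = T := by
      rw [Finset.smul_sum]
      exact Fintype.sum_equiv (Equiv.mulLeft (⟨g, Subgroup.mem_zpowers g⟩ : Subgroup.zpowers g)) _ _
        fun x => (mul_smul g (x : G) a).symm
    have hd : T - (Nat.card (Subgroup.zpowers g) : k) • a ∈ 𝔐 ^ 2 := by
      rw [Nat.card_eq_fintype_card, Nat.cast_smul_eq_nsmul, ← Finset.card_univ, ← Finset.sum_const,
        ← Finset.sum_sub_distrib]
      exact sum_mem fun x _ => hle x.2
    have h' := hsq _ hd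
    rw [smul_sub, hT, smul_comm g (Nat.card (Subgroup.zpowers g) : k),
      show T - (Nat.card (Subgroup.zpowers g) : k) • g • a - (T - (Nat.card (Subgroup.zpowers g) : k) • a) =
        -((Nat.card (Subgroup.zpowers g) : k) • (g • a - a)) by rw [smul_sub]; ring, neg_mem_iff] at h'
    have h'' := Submodule.smul_of_tower_mem _ ((Nat.card (Subgroup.zpowers g) : k)⁻¹) h'
    rwa [smul_smul, inv_mul_cancel₀ hN, one_smul] at h''
  obtain ⟨al, hal, hal'⟩ := hrep l hl
  refine ⟨l, hJM hl, le_antisymm ?_ ((Ideal.span_singleton_le_iff_mem _).2 hl)⟩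
  refine Submodule.le_of_le_smul_of_le_jacobson_bot (I := 𝔐) (IsNoetherian.noetherian _)
    (IsLocalRing.maximalIdeal_le_jacobson _) fun j hj => ?_
  obtain ⟨b, hb, hb'⟩ := hrep j hj
  obtain ⟨c, hc⟩ := hlg j hj
  have h2 : g • (b - c • al) - (b - c • al) ∈ 𝔐 • J g := by
    refine key _ (sub_mem hb (Submodule.smul_of_tower_mem _ c hal)) ?_
    have : g • (b - c • al) - (b - c • al) =
        (j - c • l) - (j - (g • b - b)) + c • (l - (g • al - al)) := by
      rw [smul_sub g b, smul_comm g c al]
      simp only [smul_sub]; ring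
    rw [this]
    exact add_mem (sub_mem hc (hMJ hb')) (Submodule.smul_of_tower_mem _ c (hMJ hal'))
  have e : j = c • l + ((g • (b - c • al) - (b - c • al)) + (j - (g • b - b)) - c • (l - (g • al - al))) := by
    rw [smul_sub g b, smul_comm g c al]
    simp only [smul_sub]; ring
  rw [e]
  exact Submodule.add_mem_sup (Submodule.smul_of_tower_mem _ c (Ideal.mem_span_singleton_self l))
    (sub_mem (add_mem h2 hb') (Submodule.smul_of_tower_mem _ c hal'))

/-- The action as a linear map over a ring of invariants. -/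
def act {R : Type u} [CommRing R] [Algebra R A] [SMulCommClass G R A] (g : G) : A →ₗ[R] A :=
  DistribSMul.toLinearMap R A g

variable {R : Type u} [CommRing R] [Algebra R A] [SMulCommClass G R A]

@[simp] lemma act_apply (g : G) (a : A) : act (R := R) g a = g • a := rfl

/-- Serre's flatness argument. -/
theorem flat_of_generated [IsNoetherianRing A] [IsDomain A] [Finite G] [IsLocalRing R] [IsNoetherianRing R]
    [Module.Finite R A] (hG : IsUnit (Nat.card G : A))
    (hinj : Function.Injective (algebraMap R A))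
    (hinv : ∀ a : A, (∀ g : G, g • a = a) → a ∈ Set.range (algebraMap R A))
    {S : Set G} (hS : Subgroup.closure S = ⊤) (hpr : ∀ g ∈ S, ∃ l ∈ 𝔐, J g = Ideal.span {l}) :
    Module.Flat R A := by
  let mR : Ideal R := IsLocalRing.maximalIdeal R
  let φ : A ⊗[R] mR →ₗ[A] A ⊗[R] R := AlgebraTensorModule.lTensor A A mR.subtype
  suffices hN : LinearMap.ker φ = ⊥ by
    have : Module.FinitePresentation R A := Module.finitePresentation_of_finite R A
    have : Module.Free R A := Module.free_of_maximalIdeal_rTensor_injective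
      (LinearMap.lTensor_inj_iff_rTensor_inj _ _ |>.1 fun a b h => LinearMap.ker_eq_bot.1 hN h)
    infer_instance
  have hfg : (LinearMap.ker φ).FG := IsNoetherian.noetherian _
  refine Submodule.eq_bot_of_le_smul_of_le_jacobson_bot 𝔐 _ hfg ?_ (IsLocalRing.maximalIdeal_le_jacobson _)
  let σ : G → (A ⊗[R] mR →ₗ[R] A ⊗[R] mR) := fun g => (act g).rTensor mR
  have hker : ∀ (f : A →ₗ[R] A) (z : A ⊗[R] mR), φ z = 0 → φ (f.rTensor mR z) = 0 := by
    intro f z hz
    have e : φ.restrictScalars R ∘ₗ f.rTensor mR = f.rTensor R ∘ₗ φ.restrictScalars R :=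
      TensorProduct.ext' fun a x => rfl
    have := LinearMap.congr_fun e z
    simp only [LinearMap.comp_apply, LinearMap.restrictScalars_apply, hz, map_zero] at this
    exact this
  let P : G → Prop := fun g => ∀ z ∈ LinearMap.ker φ, σ g z - z ∈ 𝔐 • LinearMap.ker φ
  have hσ : ∀ g h z, σ (g * h) z = σ g (σ h z) := fun g h z => by
    have : act (R := R) (A := A) (g * h) = act g ∘ₗ act h := LinearMap.ext fun a => mul_smul g h a
    simp [σ, this, LinearMap.rTensor_comp_apply]
  have hσ1 : ∀ z, σ 1 z = z := fun z => by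
    have : act (R := R) (A := A) (1 : G) = LinearMap.id := LinearMap.ext fun a => one_smul G a
    simp [σ, this]
  have hP : ∀ g, P g := by
    intro g
    have hg : g ∈ Subgroup.closure S := hS ▸ Subgroup.mem_top g
    induction hg using Subgroup.closure_induction with
    | mem x hx =>
      intro z hz
      obtain ⟨l, hl, hJ⟩ := hpr x hx
      have hd : ∀ a : A, ∃ d, x • a - a = l * d := fun a =>
        Ideal.mem_span_singleton.1 (hJ ▸ sub_mem_J x a)
      rcases eq_or_ne l 0 with rfl | hl0
      · have : act (R := R) (A := A) x = LinearMap.id := LinearMap.ext fun a => by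
          obtain ⟨d, hd⟩ := hd a
          simpa [sub_eq_zero] using hd
        simp [σ, this]
      · choose d hd using hd
        let D : A →ₗ[R] A :=
          { toFun := d
            map_add' := fun a b => mul_left_cancel₀ hl0 (by
              rw [← hd, mul_add, ← hd, ← hd, smul_add]; ring)
            map_smul' := fun r a => mul_left_cancel₀ hl0 (by
              rw [← hd, RingHom.id_apply, Algebra.mul_smul_comm, ← hd, smul_comm x r a, smul_sub]) }
        have e : ∀ w : A ⊗[R] mR, σ x w - w = l • D.rTensor mR w := by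
          intro w
          induction w with
          | zero => simp
          | tmul a m =>
            simp only [σ, LinearMap.rTensor_tmul]
            rw [TensorProduct.smul_tmul', smul_eq_mul, show D a = d a from rfl, ← hd, act_apply, sub_tmul]
          | add u v hu hv => rw [map_add, map_add, smul_add, ← hu, ← hv]; abel
        rw [e]
        exact Submodule.smul_mem_smul hl (hker D z hz)
    | one => intro z _; simp [hσ1]
    | mul x y _ _ hx hy =>
      intro z hz
      rw [hσ, show σ x (σ y z) - z = (σ x (σ y z) - σ y z) + (σ y z - z) by abel]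
      exact add_mem (hx _ (hker _ z hz)) (hy z hz)
    | inv x _ hx =>
      intro z hz
      have := hx (σ x⁻¹ z) (hker _ z hz)
      rw [← hσ, mul_inv_cancel, hσ1] at this
      rw [show σ x⁻¹ z - z = -(z - σ x⁻¹ z) by abel]
      exact neg_mem this
  intro z hz
  cases nonempty_fintype G
  have hτ : ∀ a : A, (∑ g : G, g • a) ∈ Set.range (algebraMap R A) := fun a => hinv _ fun g => by
    rw [Finset.smul_sum]
    exact Fintype.sum_equiv (Equiv.mulLeft g) _ _ fun x => (mul_smul g x a).symm
  choose t ht using hτ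
  let τ : A →ₗ[R] R :=
    { toFun := t
      map_add' := fun a b => hinj (by simp [ht, smul_add, Finset.sum_add_distrib])
      map_smul' := fun r a => hinj (by
        rw [ht, RingHom.id_apply, smul_eq_mul, map_mul, ht, ← Algebra.smul_def, Finset.smul_sum]
        exact Finset.sum_congr rfl fun g _ => smul_comm g r a) }
  have h0 : τ.rTensor mR z = 0 := by
    have hinj' : Function.Injective (mR.subtype.lTensor R) :=
      Module.Flat.lTensor_preserves_injective_linearMap _ Subtype.val_injective
    apply hinj'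
    have e : mR.subtype.lTensor R ∘ₗ τ.rTensor mR = τ.rTensor R ∘ₗ φ.restrictScalars R :=
      TensorProduct.ext' fun a x => rfl
    have h := LinearMap.congr_fun e z
    simp only [LinearMap.comp_apply, LinearMap.restrictScalars_apply, LinearMap.mem_ker.1 hz, map_zero] at h
    rw [h, map_zero]
  have hsum : ∑ g : G, σ g z = 0 := by
    have e : ∑ g : G, act (R := R) (A := A) g = (Algebra.linearMap R A) ∘ₗ τ :=
      LinearMap.ext fun a => by simp [τ, ht]
    have : (∑ g : G, act (R := R) (A := A) g).rTensor mR z = ∑ g : G, σ g z := by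
      rw [← LinearMap.coe_rTensorHom, map_sum, LinearMap.sum_apply]; rfl
    rw [← this, e, LinearMap.rTensor_comp_apply, h0, map_zero]
  have : (Nat.card G : A) • z ∈ 𝔐 • LinearMap.ker φ := by
    have h2 : ∑ g : G, (σ g z - z) ∈ 𝔐 • LinearMap.ker φ := sum_mem fun g _ => hP g z hz
    rw [Finset.sum_sub_distrib, hsum, zero_sub, neg_mem_iff, Finset.sum_const, Finset.card_univ,
      ← Nat.card_eq_fintype_card, ← Nat.cast_smul_eq_nsmul A] at h2
    exact h2
  obtain ⟨u, hu⟩ := hG
  have h3 := Submodule.smul_mem _ (↑u⁻¹ : A) this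
  rwa [smul_smul, ← hu, Units.inv_mul, one_smul] at h3

/-- The invariants of a Noetherian ring are Noetherian when the order of the group is invertible. -/
theorem isNoetherianRing_invariants [IsNoetherianRing A] [Finite G] (hG : IsUnit (Nat.card G : A))
    (hinj : Function.Injective (algebraMap R A))
    (hinv : ∀ a : A, (∀ g : G, g • a = a) → a ∈ Set.range (algebraMap R A)) : IsNoetherianRing R := by
  refine isNoetherian_mk (StrictMono.wellFoundedGT (f := Ideal.map (algebraMap R A)) ?_)
  refine Monotone.strictMono_of_injective (fun I I' h => Ideal.map_mono h) ?_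
  suffices ∀ I : Ideal R, Ideal.comap (algebraMap R A) (Ideal.map (algebraMap R A) I) = I from
    fun I I' h => by rw [← this I, ← this I', h]
  intro I
  refine le_antisymm (fun x hx => ?_) Ideal.le_comap_map
  rw [Ideal.mem_comap] at hx
  cases nonempty_fintype G
  have key : ∀ y ∈ Ideal.map (algebraMap R A) I, ∀ a : A, ∃ i ∈ I, ∑ g : G, g • (a * y) = algebraMap R A i := by
    intro y hy
    rw [Ideal.map] at hy
    induction hy using Submodule.span_induction with
    | mem y hy =>
      obtain ⟨i, hi, rfl⟩ := hy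
      intro a
      obtain ⟨b, hb⟩ := hinv (∑ g : G, g • a) (fun g => by
        rw [Finset.smul_sum]
        exact Fintype.sum_equiv (Equiv.mulLeft g) _ _ fun x => (mul_smul g x a).symm)
      refine ⟨b * i, I.mul_mem_left _ hi, ?_⟩
      rw [map_mul, hb, Finset.sum_mul]
      simp [smul_mul', smul_algebraMap]
    | zero => exact fun a => ⟨0, zero_mem _, by simp⟩
    | add y y' _ _ h h' =>
      intro a
      obtain ⟨i, hi, e⟩ := h a
      obtain ⟨i', hi', e'⟩ := h' a
      exact ⟨i + i', add_mem hi hi', by simp [smul_add, mul_add, Finset.sum_add_distrib, ← e, ← e']⟩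
    | smul c y _ h =>
      intro a
      obtain ⟨i, hi, e⟩ := h (a * c)
      exact ⟨i, hi, by rw [← e, smul_eq_mul, mul_assoc]⟩
  obtain ⟨i, hi, e⟩ := key _ hx 1
  rw [Finset.sum_congr rfl fun g _ => by rw [one_mul]] at e
  have : Nat.card G • x = i := hinj (by rw [← e]; simp [smul_algebraMap, Nat.card_eq_fintype_card])
  obtain ⟨u, hu⟩ := hG
  have hu' : ∀ g : G, g • (↑u⁻¹ : A) = ↑u⁻¹ := fun g => by
    have h1 : g • (u : A) = u := by rw [hu]; exact map_natCast (MulSemiringAction.toRingHom G A g) _
    have h2 : g • (u : A) * g • (↑u⁻¹ : A) = 1 := by rw [← smul_mul', Units.mul_inv, smul_one]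
    rw [h1] at h2
    exact (Units.inv_eq_of_mul_eq_one_right h2).symm
  obtain ⟨v, hv⟩ := hinv _ hu'
  have : x = v * i := hinj (by
    rw [← this, map_mul, hv, map_nsmul, nsmul_eq_mul, ← mul_assoc, ← hu, Units.inv_mul, one_mul])
  exact this ▸ I.mul_mem_left _ hi

end Groth.Agent.PsReflPS23
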